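import Cfsg.Agent.Lib.Co3R.Main
import Cfsg.Agent.Lib.Pat.Basic
import Cfsg.Agent.Lib.CGT.Simp
import Cfsg.Agent.Lib.Leech.OutCo
import Cfsg.Agent.Lib.Std.Base
import Cfsg.Agent.Lib.AutCl.ClSp
/-! A standard subgroup `2.Sp₆(2)` in a locally balanced simple group -/
set_option autoImplicit false
set_option maxRecDepth 100000
namespace H79.C3
open H54 H27.W H27.MP H95 H16 H10.Std Subgroup Cfsg

section flt
variable {M Ω : Type} [Group M] [MulAction M Ω] {c : Cfg} {pt : ℕ → Ω}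

/-- the product of the numbers of orbit points with the cycle lengths of the base point -/
noncomputable def fltSize (c : Cfg) (l : List (ℕ × ℕ × ℕ)) (ch : Chain) : ℕ :=
  Chain.rec (motive := fun _ => ℕ) 1
    (fun b D _ _ _ _ ih => Nat.mul (cntLt (fun δ => band (tb D δ) (fltC c l 0 0 b δ)) c.n) ih) ch

theorem card_le_flt (X : Ctx c pt) (hK : Kfix M c pt = ⊥) {l : List (ℕ × ℕ × ℕ)} {J : Subgroup M}
    (hl : ∀ q ∈ l, ∃ A, Rep c pt A q.1 ∧ cycArr c q.1 = q.2.2 ∧ ∀ g ∈ J, g * A = A * g) :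
    ∀ {ch : Chain} {H : Subgroup M}, Good c pt ch H → Nat.card (J ⊓ H : Subgroup M) ≤ fltSize c l ch
  | .nil, H, a => by rw [show H = _ from a, hK, inf_bot_eq, card_bot]; rfl
  | .cons b D tbl S W rest, H, a => by
    have ih := card_le_flt X hK hl a.2.2.2
    rw [← inf_assoc] at ih
    rw [← relIndex_bot_left, ← relIndex_mul_relIndex ⊥ (J ⊓ H ⊓ MulAction.stabilizer M (pt b)) _ bot_le
      inf_le_left, relIndex_bot_left, relIndex_inf_stabilizer, mul_comm]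
    refine Nat.mul_le_mul ((Set.ncard_le_ncard ?_ (((Set.finite_Iio c.n).subset fun _ h => h.1).image pt)).trans
      (ncard_image_le (pt := pt) _ _)) ih
    rintro _ ⟨⟨g, hg⟩, rfl⟩
    obtain ⟨f, rf⟩ := a.exists_repF X hg.2
    obtain ⟨δ, hδ, e⟩ := a.2.2.1 g hg.2
    have hfb : f b = δ := X.inj _ _ (rf b a.1).1 (a.2.1 δ hδ).1 (by rw [← (rf b a.1).2, e])
    refine ⟨δ, ⟨(a.2.1 δ hδ).1, (band_eq_true _ _).2 ⟨hδ, hfb ▸ (prune_C X hl).flt_ok 0 0 b g f rf hg.1 a.1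
      fun i hi => absurd hi (by rw [tb_zero]; decide)⟩⟩, e.symm⟩

end flt

def F8a : List (List ℕ) := [[18, 8], [16, 12, 10, 6], [18, 12, 16, 10], [24, 14, 12, 8, 4], [25, 14, 12, 8, 4], [16, 23, 18, 22, 16, 14], [23, 18, 22, 8], [25, 16, 12, 8, 4], [14, 24, 12, 8, 4], [18, 10, 16, 8], [18, 22, 16, 22, 18], [18, 22, 16, 22, 18, 4], [18, 8, 2], [18, 12, 8], [18, 12, 10], [18, 10, 12], [22, 16, 22], [22, 16, 22, 4], [23, 16, 23, 4], [18, 10, 12, 6], [18, 12, 16, 8], [23, 18, 22, 14], [22, 10, 16, 22], [22, 16, 22, 6, 4], [23, 16, 23, 6, 4], [22, 18, 16, 23, 10, 2], [18, 23, 16, 23, 18, 4], [18, 22, 16, 22, 18, 6], [18, 23, 16, 23, 18, 6], [16, 22, 18, 23, 16, 8], [20, 23, 18, 22, 21, 8], [18, 22, 10, 16, 22, 18], [16, 22, 18, 16, 23, 16, 10], [21, 23, 16, 22, 18, 23, 16]]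
def F8b : List (List ℕ) := [[18, 8], [24, 14, 12, 8, 4], [25, 14, 12, 10, 4], [23, 16, 23, 10, 6, 4], [22, 18, 8, 23, 4], [14, 24, 12, 8, 4], [25, 20, 14, 21, 4], [24, 14, 10, 12, 4], [18, 23, 16, 23, 18, 16, 6], [22, 10, 6, 4], [24, 18, 14, 8], [25, 14, 12, 4]]
def E9 : List ℕ := [18, 22, 16, 14, 22, 10, 6]
theorem clF8a : Cl (gen p3 10) p3 13 [([26, 26], [])] (cmA 13 F8a) :=
  fm3.cl (L := []) goodS3 [] (fun _ h => absurd h List.not_mem_nil) (by decide +kernel)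
theorem clF8b : Cl (gen p3 10) p3 13 [([26, 26], [0])] (cmA 13 F8b) :=
  fm3.cl (L := []) goodS3 [] (fun _ h => absurd h List.not_mem_nil) (by decide +kernel)
theorem clP4' : Cl (gen p3 10) p3 13 [] (([26, 26, 26, 26], []) :: ([26, 26, 26, 26], [0]) ::
    gdI [26, 26, 26, 26] [2] [[12], []]) :=
  fm3.cl (L := []) goodS3 [] (fun _ h => absurd h List.not_mem_nil) (by decide +kernel)
theorem clV : Cl (gen p3 10) p3 13 [] [([26, 2], [2, 26]), ([26, 2], [0, 2, 26])] :=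
  fm3.cl (L := []) goodS3 [] (fun _ h => absurd h List.not_mem_nil) (by decide +kernel)
theorem clB1 : Cl (gen p3 13) p3 13 (cmA 13 [[0], [2]] ++ (cmA 13 [[24], E9] ++
    [([26, 26, 26, 26, 26, 26, 26, 26], [])])) [([26], []), ([26], [0]), ([26], [2]), ([26], [0, 2])] :=
  fm3.cl goodH3 lS hS (by decide +kernel)
theorem clB2 : Cl (gen p3 13) p3 13 (cmA 13 [[0], [2]] ++
    [([12, 26, 24], [24, 12, 26]), (12 :: 26 :: E9, E9 ++ [12, 26])]) [] :=
  fm3.cl goodH3 lS hS (by decide +kernel)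

theorem card_cs : Nat.card (centralizer {p3 0} ⊓ centralizer {p3 1} ⊓ gen p3 13 : Subgroup Spor.Co3) ≤ 4608 :=
  (card_le_flt X276 K276_Co3 (l := lS) (fun q hq => (hS q hq).imp fun A h => ⟨h.1, h.2.1, fun g hg =>
    h.2.2 g (by simpa [xl] using ⟨mem_cent_iff.1 hg.1, mem_cent_iff.1 hg.2⟩)⟩) goodH3).trans
    (by decide +kernel)

section facts
variable {G : Type*} [Group G] [Finite G] {y : ℕ → G}

theorem St.exF (s : St y) {l : G} (hl : l ∈ gen y 13) (h : l * l = 1 ∨ l * l = y 0) :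
    ∃ f ∈ gen y 13, f ^ 4 = y 0 ∧ l * f = f * l := by
  obtain ⟨k, hk, h1⟩ := s.syl hl (by
    rw [show 4 = 2 * 2 from rfl, pow_mul, sq l, sq]; rcases h with e | e <;> simp [e, s.z2])
  obtain ⟨f, hf, e⟩ : ∃ f ∈ F8a ++ F8b, At (H27.W.upd y 13 (k * l * k⁻¹)) (26 :: f, f ++ [26]) := by
    rcases h with e | e
    · obtain ⟨_, ha, e⟩ := s.em.cl (by norm_num) clF8a (by decide +kernel) _ h1 (List.forall_mem_singleton.2
        ((at_sq (m := 13) (by simp)).2 (by rw [conj_mul, e]; simp)))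
      obtain ⟨f, hf, rfl⟩ := List.mem_map.1 ha
      exact ⟨f, List.mem_append_left _ hf, e⟩
    · obtain ⟨_, ha, e⟩ := s.em.cl (by norm_num) clF8b (by decide +kernel) _ h1 (List.forall_mem_singleton.2
        ((at_sq (m := 13) (by simp)).2 (by rw [conj_mul, e, s.mem.1 hk]; simp [xl])))
      obtain ⟨f, hf, rfl⟩ := List.mem_map.1 ha
      exact ⟨f, List.mem_append_right _ hf, e⟩
  have f4 := s.eqs (L := (F8a ++ F8b).map fun f => (f ++ (f ++ (f ++ f)), [0])) (by decide +kernel) _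
    (List.mem_map_of_mem hf)
  have wf := wfL_spec (m := 13) (by decide +kernel) hf
  simp only [At, evW_append, evW_cons, evW_nil, show 26 = 2 * 13 from rfl, xl_upd, evW_upd y _ wf,
    mul_one] at e f4
  refine ⟨k⁻¹ * evW y f * k⁻¹⁻¹, mul_mem (mul_mem (inv_mem hk) (evW_mem_gen y wf)) (inv_mem (inv_mem hk)),
    ?_, ?_⟩
  · rw [conj_pow, show evW y f ^ 4 = y 0 by simpa [pow_succ, mul_assoc, xl] using f4, s.mem.1 (inv_mem hk)]
    simp
  · calc _ = k⁻¹ * (k * l * k⁻¹ * evW y f) * k := by group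
      _ = _ := by rw [e]; group

theorem St.pow4 (s : St y) {l : G} (hl : l ∈ gen y 13) (h : l ^ 2 ^ 4 = 1) :
    l ^ 4 = 1 ∨ l ^ 4 = y 0 ∨ ∃ m ∈ gen y 13, m * y 1 * m⁻¹ = l ^ 4 := by
  obtain ⟨k, hk, h1⟩ := conj_syl (gen_mono y (by norm_num)) s.cardS (by rw [s.card]; norm_num)
    (Q := zpowers l) (fun ⟨_, j, rfl⟩ => ⟨4, Subtype.ext (by
      show (l ^ j) ^ 2 ^ 4 = 1
      rw [← zpow_natCast, ← zpow_mul, mul_comm, zpow_mul, zpow_natCast, h, one_zpow])⟩) (zpowers_le.2 hl)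
  obtain ⟨_, ha, e⟩ := s.em.cl (by norm_num) clP4' (by decide +kernel) _ (h1 l (mem_zpowers l))
    (fun _ h => absurd h List.not_mem_nil)
  have e4 : ∀ w, evW (H27.W.upd y 13 (k * l * k⁻¹)) (26 :: 26 :: 26 :: 26 :: w) =
      k * l ^ 4 * k⁻¹ * evW (H27.W.upd y 13 (k * l * k⁻¹)) w := fun w => by
    rw [← conj_pow]; simp [xl, H27.W.upd, pow_succ, mul_assoc]
  rcases List.mem_cons.1 ha with rfl | ha
  · exact Or.inl (by simpa [At, e4] using e)
  rcases List.mem_cons.1 ha with rfl | ha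
  · rw [At, e4, evW_nil, mul_one, mul_inv_eq_iff_eq_mul] at e
    exact Or.inr (Or.inl (mul_left_cancel (e.trans ((congrArg (· * k) (mul_one _)).trans (s.mem.1 hk).symm))))
  · obtain ⟨i, hi, rfl⟩ := List.mem_map.1 ha
    have wf := wfL_spec (m := 13) (by decide +kernel) hi
    have e2 : evW (H27.W.upd y 13 (k * l * k⁻¹)) [2] = y 1 := mul_one _
    simp only [At, List.cons_append, List.nil_append, e4, evW_append, evW_upd y _ wf, e2] at e
    refine Or.inr (Or.inr ⟨k⁻¹ * evW y i, mul_mem (inv_mem hk) (evW_mem_gen y wf), ?_⟩)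
    rw [mul_assoc k⁻¹, ← e]; group

theorem St.not27 (s : St y) : ¬ 27 ∣ Nat.card (gen y 13 ⊓ centralizer {y 1} : Subgroup G) := fun h => by
  have h1 : Nat.card (gen y 13 ⊓ centralizer {y 1} : Subgroup G) ≤ 4608 := by
    obtain ⟨θ, hi, e⟩ := s.em
    refine le_trans ?_ card_cs
    rw [← Nat.card_congr (subgroupOfEquivOfLe (K := gen p3 13) inf_le_right).toEquiv,
      ← card_map_of_injective hi]
    refine card_le_of_le fun g hg => ?_
    obtain ⟨u, hu, rfl⟩ := map_gen_sub le_rfl e hg.1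
    refine ⟨u, ⟨⟨cent3 p3_relsH hu, mem_cent_iff.2 (congrArg Subtype.val (hi (a₁ := u * subGen p3 13 1)
      (a₂ := subGen p3 13 1 * u) ?_))⟩, hu⟩, rfl⟩
    rw [map_mul, map_mul, e 1 (by norm_num), mem_cent_iff.1 hg.2]
  have h2 := ncard_clsIn_mul (gen y 10) (y 1)
  have h3 : (clsIn (gen y 10) (y 1)).ncard ≤ 2 := by
    refine (Set.ncard_le_ncard (t := {y 1, y 0 * y 1}) ?_).trans (Set.ncard_insert_le _ _ |>.trans (by simp))
    rintro _ ⟨u, hu, rfl⟩
    obtain ⟨_, ha, e⟩ := s.em.cl (by norm_num) clV (by decide +kernel) u hu (fun _ h => absurd h List.not_mem_nil)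
    rcases List.mem_pair.1 ha with rfl | rfl
    · exact Or.inl (by simpa [At, xl, H27.W.upd, mul_inv_eq_iff_eq_mul] using e)
    · exact Or.inr (mul_inv_eq_iff_eq_mul.2 (by simpa [At, xl, H27.W.upd, mul_assoc] using e))
  have h4 := card_dvd_of_le (inf_le_inf_right (centralizer {y 1}) (gen_mono y (by norm_num : 10 ≤ 13)))
  have h5 : 0 < Nat.card (gen y 13 ⊓ centralizer {y 1} : Subgroup G) := Nat.card_pos
  rw [s.cardS] at h2
  have h6 : 512 ∣ Nat.card (gen y 10 ⊓ centralizer {y 1} : Subgroup G) := by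
    generalize (clsIn (gen y 10) (y 1)).ncard = k at h2 h3
    interval_cases k <;> omega
  have := Nat.le_of_dvd h5 (Nat.Coprime.mul_dvd_of_dvd_of_dvd (by norm_num) (h6.trans h4) h)
  omega

theorem St.cent0 (s : St y) {w : G} (hw : w ∈ gen y 13) (c1 : w * y 12 = y 12 * w)
    (c2 : w * evW y E9 = evW y E9 * w) (cs : w * y 1 = y 1 * w ∨ w * y 1 = y 0 * y 1 * w) (h8 : w ^ 8 = 1) :
    w = 1 ∨ w = y 0 ∨ w = y 1 ∨ w = y 0 * y 1 := by
  have cm : ∀ u ∈ gen y 13, u * y 1 = y 1 * u → ∀ a ∈ cmA 13 [[0], [2]], At (H27.W.upd y 13 u) a :=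
    fun u hu h => (at_cmA y _ (by decide +kernel)).2 (by simpa [xl] using ⟨s.mem.1 hu, h⟩)
  rcases cs with cs | cs
  · obtain ⟨_, ha, e⟩ := s.em.cl le_rfl clB1 (by decide +kernel) w hw (List.forall_mem_append.2 ⟨cm w hw cs,
      List.forall_mem_append.2 ⟨(at_cmA y _ (by decide +kernel)).2 (by simpa [xl] using ⟨c1, c2⟩),
        List.forall_mem_singleton.2 (by simpa [At, xl, H27.W.upd, pow_succ, mul_assoc] using h8)⟩⟩)
    simp only [List.mem_cons, List.not_mem_nil, or_false] at ha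
    rcases ha with rfl | rfl | rfl | rfl <;> simp [At, xl, H27.W.upd] at e <;> simp [e]
  · have hE := s.eqs (L := [([12, 12], []), ([12, 0, 2], [2, 12])]) (by decide +kernel)
    simp only [List.forall_mem_cons, At, evW_cons, evW_nil, xl, Nat.reduceMod, Nat.reduceDiv, if_true,
      mul_one, ← mul_assoc] at hE
    have hu := mul_mem (mem_gen y (by norm_num : 6 < 13)) hw
    have e : xl (H27.W.upd y 13 (y 6 * w)) 12 * xl (H27.W.upd y 13 (y 6 * w)) 26 = w := by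
      show y 6 * (y 6 * w) = w
      rw [← mul_assoc, hE.1, one_mul]
    obtain ⟨_, ha, -⟩ := s.em.cl le_rfl clB2 (by decide +kernel) _ hu (List.forall_mem_append.2
      ⟨cm _ hu (by rw [mul_assoc, cs, ← mul_assoc, ← mul_assoc, hE.2.1, mul_assoc]), List.forall_mem_cons.2
        ⟨by simp only [At, evW_cons, evW_nil, mul_one, ← mul_assoc, e]; exact c1,
        List.forall_mem_singleton.2 (by
          simp only [At, evW_append, evW_cons, evW_nil, mul_one, ← mul_assoc, e,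
            evW_upd y _ (show ∀ l ∈ E9, l < 2 * 13 by decide)]
          exact c2)⟩⟩)
    exact absurd ha List.not_mem_nil

theorem St.nine (s : St y) : y 12 ^ 3 = 1 ∧ evW y E9 ^ 3 = 1 ∧ y 12 * evW y E9 = evW y E9 * y 12 ∧
    y 12 * y 1 = y 1 * y 12 ∧ evW y E9 * y 1 = y 1 * evW y E9 := by
  have hE := s.eqs (L := [([24, 24, 24], []), (E9 ++ (E9 ++ E9), []), (24 :: E9, E9 ++ [24]),
    ([24, 2], [2, 24]), (E9 ++ [2], 2 :: E9)]) (by decide +kernel)
  simpa [At, evW_append, xl, pow_three] using hE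

theorem St.cent9 (s : St y) {a b w : G} (ha : a ∈ gen y 13 ⊓ centralizer {y 1})
    (hb : b ∈ gen y 13 ⊓ centralizer {y 1}) (a3 : a ^ 3 = 1) (b3 : b ^ 3 = 1) (ab : a * b = b * a)
    (a1 : a ≠ 1) (b1 : b ≠ 1) (n1 : b ≠ a) (n2 : b ≠ a * a) (hw : w ∈ gen y 13) (c1 : w * a = a * w)
    (c2 : w * b = b * w) (cs : w * y 1 = y 1 * w ∨ w * y 1 = y 0 * y 1 * w) (h8 : w ^ 8 = 1) :
    w = 1 ∨ w = y 0 ∨ w = y 1 ∨ w = y 0 * y 1 := by
  obtain ⟨v3, e3, ve, vs, es⟩ := s.nine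
  have ne := s.nes (L := [([24], []), (E9, []), (E9, [24]), (E9, [24, 24])]) (by decide +kernel)
  simp only [List.forall_mem_cons, At, evW_cons, evW_nil, xl, Nat.reduceMod, Nat.reduceDiv, if_true,
    mul_one] at ne
  set J := gen y 13 ⊓ centralizer {y 1}
  have mv : y 12 ∈ J := ⟨mem_gen y (by norm_num), mem_cent_iff.2 vs⟩
  have me : evW y E9 ∈ J := ⟨evW_mem_gen y (by decide), mem_cent_iff.2 es⟩
  have k : ∀ {a b : G}, a ∈ J → b ∈ J → Nat.card (closure ({a, b} : Set G)) = 9 →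
      Nat.card ((closure ({a, b} : Set G)).subgroupOf J) = 9 := fun ha hb h =>
    (Nat.card_congr (subgroupOfEquivOfLe ((closure_le _).2 (Set.pair_subset ha hb))).toEquiv).trans h
  obtain ⟨⟨g, hg, gs⟩, h⟩ := H27.Gn.exists_conj_nine s.not27
    (k mv me (H27.Gn.card_nine v3 e3 ve ne.1 ne.2.1 ne.2.2.1 ne.2.2.2.1))
    (k ha hb (H27.Gn.card_nine a3 b3 ab a1 b1 n1 n2))
  replace gs := mem_cent_iff.1 gs
  have gz := s.mem.1 hg
  have c : ∀ u, g⁻¹ * u * g ∈ closure ({a, b} : Set G) → g * w * g⁻¹ * u = u * (g * w * g⁻¹) := fun u hu => by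
    have : closure ({a, b} : Set G) ≤ centralizer {w} :=
      (closure_le _).2 (Set.pair_subset (mem_cent_iff.2 c1.symm) (mem_cent_iff.2 c2.symm))
    calc _ = g * (w * (g⁻¹ * u * g)) * g⁻¹ := by group
      _ = _ := by rw [← mem_cent_iff.1 (this hu)]; group
  have cj : ∀ u, g * u = u * g → g * w * g⁻¹ = u → w = u := fun u h e => by
    rwa [mul_inv_eq_iff_eq_mul, ← h, mul_right_inj] at e
  have s1 : ∀ u, g * u = u * g → w * y 1 = u * w → g * w * g⁻¹ * y 1 = u * (g * w * g⁻¹) := fun u h e => by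
    calc _ = g * w * g⁻¹ * (y 1 * g) * g⁻¹ := by group
      _ = g * (w * y 1) * g⁻¹ := by rw [← gs]; group
      _ = _ := by rw [e, ← mul_assoc, h]; group
  have gzs : g * (y 0 * y 1) = y 0 * y 1 * g := by rw [← mul_assoc, gz, mul_assoc, gs, mul_assoc]
  exact (s.cent0 (mul_mem (mul_mem hg hw) (inv_mem hg)) (c _ ((h ⟨_, mv⟩).1 (H27.Gn.left_mem _ _)))
    (c _ ((h ⟨_, me⟩).1 (H27.Gn.right_mem _ _))) (cs.imp (s1 _ gs) (s1 _ gzs))
    (by rw [conj_pow, h8]; simp)).imp (cj _ (by simp)) (Or.imp (cj _ gz) (Or.imp (cj _ gs) (cj _ gzs)))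

end facts

variable {Γ G : Type*} [Group Γ] [Group G] [Finite Γ] {y : ℕ → Γ} {f : Γ →* G}

/-- `f` embeds the standard subgroup -/
structure Sd (y : ℕ → Γ) (f : Γ →* G) : Prop where
  st : St y
  top : gen y 13 = ⊤
  inj : Function.Injective f
  cen : ∀ a, f a ∈ KK f → a = 1 ∨ a = y 0
  dec : ∀ c, c * f (y 0) = f (y 0) * c → ∃ k ∈ KK f, ∃ a, c = k * f a
  ti : ∀ g k, k ∈ KK f → k * k = 1 → k ≠ 1 → g * k * g⁻¹ ∈ KK f → g * f (y 0) = f (y 0) * g

namespace Sd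
variable (h : Sd y f)
include h

omit [Finite Γ] in
theorem mem (a : Γ) : a ∈ gen y 13 := h.top ▸ mem_top a
omit [Finite Γ] in
theorem zc (a : Γ) : a * y 0 = y 0 * a := h.st.mem.1 (h.mem a)
omit [Finite Γ] in
theorem zK : f (y 0) ∈ KK f := mem_KK.2 fun a => by rw [← map_mul, h.zc, map_mul]
omit [Finite Γ] in
theorem z2 : f (y 0) * f (y 0) = 1 := by rw [← map_mul, h.st.z2, map_one]
omit [Finite Γ] in
theorem z1 : f (y 0) ≠ 1 := fun e => h.st.ne (h.inj (e.trans (map_one f).symm))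

omit [Finite Γ] in
theorem pow {k : G} (hk : k ∈ KK f) {a : Γ} {n : ℕ} (e : (k * f a) ^ n = 1) : a ^ n = 1 ∨ a ^ n = y 0 := by
  rw [KK.pow hk] at e
  exact h.cen _ (eq_inv_of_mul_eq_one_right e ▸ inv_mem (pow_mem hk n))

omit [Finite Γ] in
theorem pow2 {k : G} (hk : k ∈ KK f) {a : Γ} {n : ℕ} (e : (k * f a) ^ n = 1) : a ^ (n * 2) = 1 := by
  rw [pow_mul, sq]; rcases h.pow hk e with e | e <;> simp [e, h.st.z2]

omit [Finite Γ] in
theorem comm {k k' : G} (hk : k ∈ KK f) (hk' : k' ∈ KK f) {a a' : Γ}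
    (e : k * f a * (k' * f a') = k' * f a' * (k * f a)) : a * a' = a' * a ∨ a * a' = y 0 * a' * a := by
  rw [KK.mul_mul hk', KK.mul_mul hk] at e
  have := h.cen (a * a' * (a' * a)⁻¹) (by
    rw [map_mul, map_inv, show f (a * a') = (k * k')⁻¹ * (k' * k * f (a' * a)) by rw [← e]; group,
      ← mul_assoc, mul_inv_cancel_right]
    exact mul_mem (inv_mem (mul_mem hk hk')) (mul_mem hk' hk))
  rwa [mul_inv_eq_one, mul_inv_eq_iff_eq_mul, ← mul_assoc] at this

omit [Finite Γ] in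
theorem comm3 {k k' : G} (hk : k ∈ KK f) (hk' : k' ∈ KK f) {a a' : Γ} (a3 : a' ^ 3 = 1)
    (e : k * f a * (k' * f a') = k' * f a' * (k * f a)) : a * a' = a' * a :=
  (h.comm hk hk' e).resolve_right fun e => h.st.ne (by
    have := conj_pow (a := a) (b := a') (i := 3)
    rw [e, mul_inv_cancel_right, Commute.mul_pow (h.zc a').symm, a3, pow_three, h.st.z2] at this
    simpa using this)

theorem stepA {g : G} (c : g * f (y 0) * g⁻¹ * f (y 0) = f (y 0) * (g * f (y 0) * g⁻¹))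
    (ne : g * f (y 0) ≠ f (y 0) * g) : ∃ k ∈ KK f, ∃ m, g⁻¹ * f (y 0) * g = k * f (m * y 1 * m⁻¹) := by
  obtain ⟨k, hk, l, e⟩ := h.dec _ c
  obtain ⟨φ, -, h4, c'⟩ := h.st.exF (h.mem l) (by
    rw [← sq]; exact h.pow hk (by rw [← e, sq, conj_mul, h.z2]; simp))
  have c2 : g * f (y 0) * g⁻¹ * f φ = f φ * (g * f (y 0) * g⁻¹) := by
    rw [e, mul_assoc, ← map_mul, c', map_mul, ← mul_assoc, ← KK.comm hk, mul_assoc]
  obtain ⟨k1, hk1, l1, e1⟩ := h.dec (g⁻¹ * f φ * g⁻¹⁻¹) (by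
    calc _ = g⁻¹ * (f φ * (g * f (y 0) * g⁻¹)) * g := by group
      _ = _ := by rw [← c2]; group)
  have e4 : g⁻¹ * f (y 0) * g = k1 ^ 4 * f (l1 ^ 4) := by
    rw [← KK.pow hk1, ← e1, conj_pow, ← map_pow, h4, inv_inv]
  have nK : f (l1 ^ 4) ∉ KK f := fun m => ne (by
    have := h.ti g⁻¹ _ h.zK h.z2 h.z1 (by rw [inv_inv, e4]; exact mul_mem (pow_mem hk1 4) m)
    rw [← mul_left_inj g⁻¹, ← mul_right_inj g⁻¹, mul_inv_cancel_right, this]; group)
  rcases h.st.pow4 (h.mem l1) (h.pow2 (n := 8) hk1 (by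
    rw [← e1, conj_pow, ← map_pow, show 8 = 4 * 2 from rfl, pow_mul, h4, sq, h.st.z2]; simp)) with
    e | e | ⟨m, -, e⟩
  · exact absurd (by rw [e, map_one]; exact one_mem _) nK
  · exact absurd (e ▸ h.zK) nK
  · exact ⟨_, pow_mem hk1 4, m, e ▸ e4⟩

theorem key {n k k1 : G} (hk : k ∈ KK f) (hk1 : k1 ∈ KK f) (h1 : n * f (y 0) * n⁻¹ = k1 * f (y 1))
    (h2 : n * (k * f (y 1)) * n⁻¹ = f (y 0)) {u : G} (hu : u ∈ KK f) (uk : u * k = k * u)
    (u2 : u * u = 1 ∨ u * u = f (y 0)) : u = 1 ∨ u = f (y 0) := by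
  have ne := h.st.nes (L := [([2], []), ([2], [0])]) (by decide +kernel)
  simp only [List.forall_mem_cons, At, evW_cons, evW_nil, xl, Nat.reduceMod, Nat.reduceDiv, if_true,
    mul_one] at ne
  have nz : n * f (y 0) * n⁻¹ ∉ KK f := fun m =>
    (h.cen _ ((mul_mem_cancel_left hk1).1 (h1 ▸ m))).elim ne.1 ne.2.1
  have cj : ∀ {u v : G}, u * v = v * u → n * u * n⁻¹ * (n * v * n⁻¹) = n * v * n⁻¹ * (n * u * n⁻¹) :=
    fun e => by rw [conj_mul, conj_mul, e]
  have dc : ∀ c, c * (k * f (y 1)) = k * f (y 1) * c → ∃ κ ∈ KK f, ∃ a, n * c * n⁻¹ = κ * f a :=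
    fun c e => h.dec _ (by rw [← h2, cj e])
  have ct : ∀ a, a * y 1 = y 1 * a → f a * (k * f (y 1)) = k * f (y 1) * f a := fun a e => by
    rw [← mul_assoc, KK.comm hk, mul_assoc, ← map_mul, e, map_mul, mul_assoc]
  have nK : ∀ a b, b * y 1 = y 1 * b → a * b * a⁻¹ * b⁻¹ * (a * b * a⁻¹ * b⁻¹) = y 0 →
      n * f a * n⁻¹ ∉ KK f := fun a b e e' m => by
    obtain ⟨κ, hκ, b', eb⟩ := dc _ (ct b e)
    have : n * f (a * b * a⁻¹ * b⁻¹) * n⁻¹ ∈ KK f := by
      rw [show n * f (a * b * a⁻¹ * b⁻¹) * n⁻¹ = n * f a * n⁻¹ * (n * f b * n⁻¹ * (n * f a * n⁻¹)⁻¹ *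
        (n * f b * n⁻¹)⁻¹) by simp [mul_assoc], eb, mul_assoc κ, KK.comm (inv_mem m)]
      simpa [mul_assoc] using mul_mem m (mul_mem (mul_mem hκ (inv_mem m)) (inv_mem hκ))
    exact nz (by rw [← e', map_mul, ← conj_mul]; exact mul_mem this this)
  have three : ∀ a, a * y 1 = y 1 * a → a ^ 3 = 1 → ∃ κ ∈ KK f, ∃ b, n * f a * n⁻¹ = κ * f b ∧ b ^ 3 = 1 ∧
      b ∈ gen y 13 ⊓ centralizer {y 1} := fun a e a3 => by
    obtain ⟨κ, hκ, b, eb⟩ := dc _ (ct a e)
    have e1 : n * f a * n⁻¹ = κ ^ 4 * f (b ^ 4) := by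
      rw [← KK.pow hκ, ← eb, conj_pow, ← map_pow, pow_succ, a3, one_mul]
    have e2 : (b ^ 4) ^ 3 = 1 := by
      rw [← pow_mul, show 4 * 3 = 3 * 2 * 2 from rfl, pow_mul, h.pow2 hκ (by
        rw [← eb, conj_pow, ← map_pow, a3]; simp), one_pow]
    refine ⟨_, pow_mem hκ 4, _, e1, e2, h.mem _, mem_cent_iff.2 (h.comm3 hk1 (pow_mem hκ 4) e2 ?_).symm⟩
    rw [← h1, ← e1, cj (KK.comm h.zK a).symm]
  obtain ⟨v3, e3, ve, vs, es⟩ := h.st.nine
  obtain ⟨κ1, m1, a, ea, a3, ma⟩ := three _ vs v3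
  obtain ⟨κ2, m2, b, eb, b3, mb⟩ := three _ es e3
  have hE := h.st.eqs (L := [([14, 4], [24]), ([16], E9), ([14, 6], E9 ++ [25]),
    ([10, 4], E9 ++ [24])].flatMap fun t => [(t.1 ++ [2], 2 :: t.1),
      (t.2 ++ (t.1 ++ invA t.2 (invA t.1 (t.2 ++ (t.1 ++ invA t.2 (invA t.1 []))))), [0])]) (by decide +kernel)
  simp only [List.flatMap_cons, List.flatMap_nil, List.forall_mem_append, List.forall_mem_cons, At,
    evW_append, evW_invA, evW_cons _ 2, evW_cons _ 0, evW_cons _ 24, evW_cons _ 25, evW_nil, mul_one,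
    show xl y 2 = y 1 from rfl, show xl y 0 = y 0 from rfl, show xl y 24 = y 12 from rfl,
    show xl y 25 = (y 12)⁻¹ from rfl] at hE
  obtain ⟨⟨c1, d1, -⟩, ⟨c2, d2, -⟩, ⟨c3, d3, -⟩, ⟨c4, d4, -⟩, -⟩ := hE
  obtain ⟨κ, hκ, w, ew⟩ := dc u (by
    rw [← mul_assoc, uk, mul_assoc, ← KK.comm hu, mul_assoc])
  have fin : ∀ u ∈ KK f, u * u = 1 ∨ u * u = f (y 0) → n * u * n⁻¹ ∈ KK f → u = 1 := fun u hu u2 m => by
    rcases u2 with e | e
    · by_contra u1
      exact nz (by rw [h.ti n u hu e u1 m, mul_inv_cancel_right]; exact h.zK)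
    · exact absurd (by rw [← e, ← conj_mul]; exact mul_mem m m) nz
  have uz := (KK.comm hu (y 0)).symm
  have fin2 : f (w * y 1) ∈ KK f → u = f (y 0) := fun m => by
    have := fin _ (mul_mem hu h.zK) (by
      rwa [← sq, Commute.mul_pow uz, sq, sq, h.z2, mul_one]) (by
      rw [← conj_mul, ew, h1, KK.mul_mul hk1]; exact mul_mem (mul_mem hκ hk1) m)
    rw [eq_inv_of_mul_eq_one_left this, inv_eq_of_mul_eq_one_right h.z2]
  have s2 : y 1 * y 1 = 1 := by simpa [xl] using h.st.rels [2, 2] (by decide)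
  rcases h.st.cent9 ma mb a3 b3 (h.comm3 m1 m2 b3 (by rw [← ea, ← eb, cj (by rw [← map_mul, ve, map_mul])]))
    (fun e => nK _ _ c1 (by simpa only [mul_assoc] using d1) (by rw [ea, e, map_one, mul_one]; exact m1))
    (fun e => nK _ _ c2 (by simpa only [mul_assoc] using d2) (by rw [eb, e, map_one, mul_one]; exact m2))
    (fun e => nK (evW y E9 * (y 12)⁻¹) _ c3 (by simpa only [mul_assoc] using d3) (by
      rw [map_mul, map_inv, ← conj_mul, ← conj_inv, ea, eb, e]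
      simpa [mul_assoc] using mul_mem m2 (inv_mem m1)))
    (fun e => nK (evW y E9 * y 12) _ c4 (by simpa only [mul_assoc] using d4) (by
      rw [map_mul, ← conj_mul, ea, eb, e, KK.mul_mul m1, ← pow_three', a3, map_one, mul_one]
      exact mul_mem m2 m1))
    (h.mem w) (h.comm3 hκ m1 a3 (by rw [← ea, ← ew, cj (KK.comm hu _).symm]))
    (h.comm3 hκ m2 b3 (by rw [← eb, ← ew, cj (KK.comm hu _).symm]))
    (h.comm hκ hk1 (by rw [← h1, ← ew, cj uz])) (h.pow2 (n := 4) hκ (by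
      rw [← ew, conj_pow, show 4 = 2 * 2 from rfl, pow_mul, sq u, sq]
      rcases u2 with e | e <;> simp [e, h.z2])) with e | e | e | e
  · exact Or.inl (fin u hu u2 (by rw [ew, e, map_one, mul_one]; exact hκ))
  · exact Or.inl (fin u hu u2 (by rw [ew, e]; exact mul_mem hκ h.zK))
  · exact Or.inr (fin2 (by rw [e, s2, map_one]; exact one_mem _))
  · exact Or.inr (fin2 (by rw [e, mul_assoc, s2, mul_one]; exact h.zK))

theorem two {g : G} (c : g * f (y 0) * g⁻¹ * f (y 0) = f (y 0) * (g * f (y 0) * g⁻¹))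
    (ne : g * f (y 0) ≠ f (y 0) * g) {u : G} (hu : u ∈ KK f) (u2 : u * u = 1 ∨ u * u = f (y 0)) :
    u = 1 ∨ u = f (y 0) := by
  obtain ⟨k1, hk1, m1, e1⟩ := h.stepA c ne
  obtain ⟨k, hk, m, e⟩ := h.stepA (g := g⁻¹) (by
    calc _ = g⁻¹ * (f (y 0) * (g * f (y 0) * g⁻¹)) * g := by group
      _ = _ := by rw [← c]; group) fun e => ne (by
    rw [← mul_left_inj g⁻¹, ← mul_right_inj g⁻¹, mul_inv_cancel_right, e]; group)
  have cj : ∀ {k : G}, k ∈ KK f → ∀ a b, f a * (k * f b) * (f a)⁻¹ = k * f (a * b * a⁻¹) := fun hk a b => by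
    rw [← mul_assoc, KK.comm hk, map_mul, map_mul, map_inv]; group
  have h1 : (f m1⁻¹ * g⁻¹ * f m) * f (y 0) * (f m1⁻¹ * g⁻¹ * f m)⁻¹ = k1 * f (y 1) := by
    calc _ = f m1⁻¹ * (g⁻¹ * (f m * f (y 0) * (f m)⁻¹) * g) * (f m1⁻¹)⁻¹ := by group
      _ = _ := by rw [KK.comm h.zK, mul_inv_cancel_right, e1, cj hk1]; congr 2; group
  have h2 : (f m1⁻¹ * g⁻¹ * f m) * (k * f (y 1)) * (f m1⁻¹ * g⁻¹ * f m)⁻¹ = f (y 0) := by
    calc _ = f m1⁻¹ * (g⁻¹ * (f m * (k * f (y 1)) * (f m)⁻¹) * g) * (f m1⁻¹)⁻¹ := by group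
      _ = f m1⁻¹ * f (y 0) * (f m1⁻¹)⁻¹ := by rw [cj hk, ← e]; group
      _ = _ := by rw [KK.comm h.zK, mul_inv_cancel_right]
  have k2 : k * k = 1 := by
    have : (k * f (y 1)) ^ 2 = 1 := by
      rw [← conj_eq_one_iff (a := f m1⁻¹ * g⁻¹ * f m), ← conj_pow, h2, sq, h.z2]
    rwa [KK.pow hk, sq (y 1), show y 1 * y 1 = 1 by simpa [xl] using h.st.rels [2, 2] (by decide), map_one,
      mul_one, sq] at this
  refine h.key hk hk1 h1 h2 hu ?_ u2
  rcases h.key hk hk1 h1 h2 hk rfl (Or.inl k2) with e | e <;> rw [e]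
  · simp
  · exact (KK.comm hu _).symm

theorem K_eq [Finite G] (two : ∀ u ∈ KK f, u * u = 1 ∨ u * u = f (y 0) → u = 1 ∨ u = f (y 0))
    (bal : centralizerPPrimeCore 2 (f (y 0)) = ⊥) {k : G} (hk : k ∈ KK f) : k = 1 ∨ k = f (y 0) := by
  classical
  let z : KK f := ⟨_, h.zK⟩
  have oz : orderOf z = 2 := orderOf_eq_two_of (Subtype.ext h.z2) fun e => h.z1 (congrArg Subtype.val e)
  have mz : ∀ u : KK f, u ∈ zpowers z ↔ u = 1 ∨ u = z := fun u => by
    rw [mem_zpowers_iff_mem_range_orderOf, oz]; simp [Finset.range_add_one, or_comm, eq_comm]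
  have : (zpowers z).Normal := ⟨fun u hu g => by
    rcases (mz u).1 hu with rfl | rfl
    · simp
    · rw [show g * z = z * g from Subtype.ext (KK.comm g.2 _).symm, mul_inv_cancel_right]; exact hu⟩
  have odd : ¬ 2 ∣ (zpowers z).index := fun d => by
    obtain ⟨u, hu⟩ := exists_prime_orderOf_dvd_card' 2 d
    obtain ⟨u, rfl⟩ := QuotientGroup.mk_surjective u
    have := (mz _).1 ((QuotientGroup.eq_one_iff (u * u)).1 (by
      rw [QuotientGroup.mk_mul, ← sq, ← hu, pow_orderOf_eq_one]))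
    exact ne_one_of_orderOf_eq_two hu ((QuotientGroup.eq_one_iff u).2 ((mz u).2 ((two u u.2
      (this.imp (congrArg Subtype.val) (congrArg Subtype.val))).imp Subtype.ext Subtype.ext)))
  have cz : Nat.card (zpowers z) = 2 := by rw [Nat.card_zpowers, oz]
  obtain ⟨W, hW⟩ := exists_right_complement'_of_coprime (N := zpowers z)
    (cz ▸ (Nat.prime_two.coprime_iff_not_dvd).2 odd)
  have le : W.map (KK f).subtype ≤ centralizer {f (y 0)} := fun u hu =>
    mem_cent_iff.2 (KK.comm (map_subtype_le _ hu) _).symm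
  have m : (⟨k * k, mem_cent_iff.2 (KK.comm (mul_mem hk hk) _).symm⟩ : centralizer {f (y 0)}) ∈
      ((W.map (KK f).subtype).subgroupOf (centralizer {f (y 0)})).normalCore := fun c => by
    obtain ⟨κ, hκ, a, e⟩ := h.dec c (mem_cent_iff.1 c.2)
    have m : (c : G) * k * (c : G)⁻¹ ∈ KK f := by
      rw [e, mul_assoc κ, KK.comm hk, mul_inv_rev, ← mul_assoc, ← mul_assoc, mul_inv_cancel_right]
      exact mul_mem (mul_mem hκ hk) (inv_mem hκ)
    exact ⟨_, mul_self_mem_of_index_two (hW.index_eq_card.trans cz) ⟨_, m⟩, conj_mul⟩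
  refine two k hk (Or.inl (mem_bot.1 (bal ▸ mem_map_of_mem (centralizer {f (y 0)}).subtype
    ((le_sSup ⟨normalCore_normal _, ?_⟩ : _ ≤ pPrimeCore 2 _) m))))
  refine Nat.Coprime.coprime_dvd_left (card_dvd_of_le (normalCore_le _)) ?_
  rw [Nat.card_congr (subgroupOfEquivOfLe le).toEquiv, card_map_of_injective (subtype_injective _),
    ← hW.symm.index_eq_card]
  exact ((Nat.prime_two.coprime_iff_not_dvd).2 odd).symm

end Sd

theorem out_sp62 : Nat.card (Out (PSp 3 (ZMod 2))) = 1 := index_eq_one.2 (eq_top_iff.2 fun β _ => by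
  obtain ⟨g, α, rfl⟩ := H67.psp_aut 2 (by norm_num) (by norm_num) β
  rw [Subsingleton.elim α 1, map_one, mul_one, H67.inn_psp_eq (by norm_num)]
  exact mem_map_of_mem _ (Subsingleton.elim _ _))

theorem std [Finite G] [IsSimpleGroup G] (hG : ¬ IsMulCommutative G)
    (bal : ∀ t : G, orderOf t = 2 → centralizerPPrimeCore 2 t = ⊥) {L : Subgroup G}
    (hL : IsStandardSubgroup L) (h2 : Nat.card (center L) = 2) (e : L ⧸ center L ≃* PSp 3 (ZMod 2)) :
    Spor.IsoCo3 G := by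
  have hp : _root_.commutator L = ⊤ := hL.1.1.commutator_eq_top
  have hC : IsNonsplitDoubleCover L (Matrix.symplecticGroup (Fin 3) (ZMod 2)) :=
    ⟨h2, ⟨e.trans ((QuotientGroup.quotientMulEquivOfEq (card_eq_one.1 ((Cfsg.Agent.S0246.result (F := ZMod 2)
      (q := 2) rfl 3 (by norm_num)).trans (by norm_num)))).trans QuotientGroup.quotientBot)⟩, fun W hW => by
      have i := hW.index_eq_card.trans h2
      have := normal_of_index_eq_two i
      have : W = ⊤ := eq_top_iff.2 (hp ▸ commutator_le.2 fun a _ b _ => by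
        simp only [commutatorElement_def, mul_mem_iff_of_index_two i, inv_mem_iff]; tauto)
      simp [this] at i⟩
  obtain ⟨⟨t, tc⟩, ht⟩ := exists_prime_orderOf_dvd_card' (G := center L) 2 h2.symm.dvd
  rw [← orderOf_coe] at ht
  have ct : centralizer ({t} : Set L) = ⊤ := eq_top_iff.2 fun g _ => mem_cent_iff.2 (mem_center_iff.1 tc g)
  obtain ⟨y, s, rfl⟩ := setup ht (H48.Pat.nonsplit_of_equiv ((MulEquiv.subgroupCongr ct).trans topEquiv) hC)
  have hK : KK L.subtype = centralizer (L : Set G) := by rw [KK, range_subtype]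
  have cen : ∀ a : L, a ∈ center L → a = 1 ∨ a = y 0 := fun a ha =>
    or_iff_not_imp_left.2 fun a1 => eq_of_two h2 ha tc a1 s.ne
  have aut : ∀ c ∈ normalizer (L : Set G), ∃ k ∈ KK L.subtype, ∃ a, c = k * L.subtype a := fun c hc => by
    obtain ⟨b, hb⟩ := inner_of_out hp ((H16.card_Out_congr e).trans out_sp62) (L.normalizerMonoidHom ⟨c, hc⟩)
    refine ⟨c * (b : G)⁻¹, mem_KK.2 fun a => ?_, b, (inv_mul_cancel_right _ _).symm⟩
    have : c * ((b : G)⁻¹ * a * b) * c⁻¹ = b * ((b : G)⁻¹ * a * b) * (b : G)⁻¹ :=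
      congrArg Subtype.val (hb (b⁻¹ * a * b))
    calc _ = (b * ((b : G)⁻¹ * a * b) * (b : G)⁻¹) * (c * (b : G)⁻¹) := by simp [mul_assoc]
      _ = _ := by rw [← this]; simp [mul_assoc]
  have zK : L.subtype (y 0) ∈ KK L.subtype := mem_KK.2 fun a => congrArg Subtype.val (mem_center_iff.1 tc a)
  have oz : orderOf (L.subtype (y 0)) = 2 := (orderOf_coe _).trans ht
  have h : Sd y L.subtype := ⟨s, s.hg.trans ct, subtype_injective _,
    fun a m => cen a (mem_center_iff.2 fun b => Subtype.ext (KK.comm m b)),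
    fun c hc => aut c ((Cfsg.Agent.S1754.result L hL _ oz (hK ▸ zK)).1 (mem_cent_iff.2 hc)),
    fun g k hk k2 k1 hg => by
      by_contra c
      have o := hL.2.1.2 g fun hn => c (by
        obtain ⟨κ, hκ, a, rfl⟩ := aut g (hL.2.2.2 ▸ hn)
        rw [mul_assoc, KK.comm zK, ← mul_assoc, ← KK.comm hκ, mul_assoc])
      rw [hK] at hk hg
      have := orderOf_dvd_natCard (⟨g * k * g⁻¹, hg, k, hk, rfl⟩ :
        ↥(centralizer (L : Set G) ⊓ (centralizer (L : Set G)).map (MulAut.conj g).toMonoidHom))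
      rw [← orderOf_coe, H9.orderOf_conj, orderOf_eq_two_of k2 k1] at this
      exact (Nat.not_even_iff_odd.2 o) (even_iff_two_dvd.2 this)⟩
  have hZ : center G = ⊥ := (inferInstance : (center G).Normal).eq_bot_or_eq_top.resolve_right fun e =>
    hG ⟨⟨fun a b => mem_center_iff.1 (e.ge (mem_top b)) a⟩⟩
  have hO : oddCore G = ⊥ := (inferInstance : (oddCore G).Normal).eq_bot_or_eq_top.resolve_right fun e => by
    have := H1.odd_card_oddCore (G := G)
    rw [e, card_top] at this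
    exact (Nat.not_even_iff_odd.2 this) (even_iff_two_dvd.2 (oz ▸ orderOf_dvd_natCard _))
  have hg : ∃ g : G, Commute (g * L.subtype (y 0) * g⁻¹) (L.subtype (y 0)) ∧
      g * L.subtype (y 0) * g⁻¹ ≠ L.subtype (y 0) := by
    by_contra! hn
    have := H73.centralizer_sup_oddCore_eq_top' oz hn
    rw [hO, sup_bot_eq] at this
    exact h.z1 (mem_bot.1 (hZ ▸ mem_center_iff.2 fun g => mem_cent_iff.1 (this ▸ mem_top g)))
  obtain ⟨g, c, ne⟩ := hg
  refine co3 hO hZ oz (H48.Pat.nonsplit_of_equiv (MulEquiv.subgroupCongr (le_antisymm (fun u hu => ?_)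
    fun u hu => mem_cent_iff.2 (KK.comm zK ⟨u, hu⟩))) hC)
  obtain ⟨k, hk, a, rfl⟩ := h.dec u (mem_cent_iff.1 hu)
  rcases h.K_eq (fun _ => h.two c fun e => ne (mul_inv_eq_iff_eq_mul.2 e)) (bal _ oz) hk with rfl | rfl
  exacts [mul_mem (one_mem _) a.2, mul_mem (y 0).2 a.2]


theorem eqns_std : True := by
  have := @fltSize.eq_1
  have := @F8a.eq_1
  have := @F8b.eq_1
  have := @E9.eq_1
  trivial
end H79.C3
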